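import Mathlib
import Cfsg.Agent.Lib.SymSyl.Two

/-!
# Overgroups of Sylow 2-subgroups in symmetric and alternating groups
-/

set_option autoImplicit false

namespace CfsgLib.SymSyl

open Equiv Equiv.Perm MulAction

variable {α : Type*}

theorem isPreprimitive_of {H : Subgroup (Perm α)} (a : α) (h1 : ∀ b, ∃ h ∈ H, h a = b)
    (h2 : ∀ b c, b ≠ a → c ≠ a → ∃ h ∈ H, h a = a ∧ h b = c) : IsPreprimitive H α := by
  refine isPreprimitive_of_is_two_pretransitive (is_two_pretransitive_iff.2 fun {b c d e} hbc hde => ?_)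
  obtain ⟨g, hg, rfl⟩ := h1 b
  obtain ⟨k, hk, rfl⟩ := h1 d
  obtain ⟨h, hh, e1, e2⟩ := h2 (g⁻¹ c) (k⁻¹ e) (fun e => hbc (Perm.inv_eq_iff_eq.1 e).symm)
    fun e => hde (Perm.inv_eq_iff_eq.1 e).symm
  exact ⟨⟨k * h * g⁻¹, H.mul_mem (H.mul_mem hk hh) (H.inv_mem hg)⟩, by simp [e1], by
    change k (h (g⁻¹ c)) = e
    rw [e2]
    simp⟩

theorem transitive_of {H : Subgroup (Perm α)} {a : α} (h2 : ∀ b c, b ≠ a → c ≠ a → ∃ h ∈ H, h b = c) {g : Perm α}
    (hg : g ∈ H) (hga : g a ≠ a) (b : α) : ∃ h ∈ H, h a = b := by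
  by_cases hb : b = a
  · exact ⟨1, H.one_mem, hb.symm⟩
  · obtain ⟨h, hh, e⟩ := h2 _ _ hga hb
    exact ⟨h * g, H.mul_mem hh hg, e⟩

variable [DecidableEq α] [Fintype α]

theorem isThreeCycle_sq {τ s t : Perm α} (hτ : τ.IsThreeCycle) (h1 : Commute τ s) (h2 : Commute τ t) (h3 : Commute s t)
    (hs : s * s = 1) (ht : t * t = 1) : (τ * s * t * (τ * s * t)).IsThreeCycle := by
  rw [(h2.symm.mul_right h3.symm).mul_mul_mul_comm, ht, mul_one, h1.symm.mul_mul_mul_comm, hs, mul_one]
  exact hτ.isThreeCycle_sq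

namespace Pairing

variable {P : Subgroup (Perm α)} {z : Perm α} (hz : Pairing P z)
include hz

theorem swap_swap_mem {a b : α} (ha : z a ≠ a) (hb : z b ≠ b) :
    swap a (z a) * swap b (z b) ∈ P ⊓ alternatingGroup α :=
  ⟨P.mul_mem (hz.swap_mem a) (hz.swap_mem b), swap_mul_swap_mem ha.symm hb.symm⟩

theorem exists_even (h4 : 4 ≤ Fintype.card α) {g : Perm α} (hg : g ∈ P) (b : α) :
    ∃ h ∈ P ⊓ alternatingGroup α, h b = g b := by
  by_cases hs : g ∈ alternatingGroup α
  · exact ⟨g, ⟨hg, hs⟩, rfl⟩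
  obtain ⟨c, hc, hc'⟩ := hz.exists_not_mem [b, z b] (by simp; omega)
  simp only [List.mem_cons, List.not_mem_nil, or_false, not_or] at hc
  refine ⟨g * swap c (z c), ⟨P.mul_mem hg (hz.swap_mem c), ?_⟩, ?_⟩
  · rw [SetLike.mem_coe, mem_alternatingGroup] at *
    simp [(Int.units_eq_one_or _).resolve_left hs, Ne.symm hc']
  · rw [Perm.mul_apply, swap_apply_of_ne_of_ne (Ne.symm hc.1) fun e => hc.2 (hz.eq_iff.1 e.symm)]

theorem exists_threeCycle_aux {H : Subgroup (Perm α)} (hH : P ⊓ alternatingGroup α ≤ H) {p q r s f : α}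
    (hy : swap p q * swap r s ∈ H) (hpq : p ≠ q) (hpr : p ≠ r) (hps : p ≠ s) (hqr : q ≠ r) (hqs : q ≠ s)
    (hq : z q ∉ [p, q, r, s]) (hf : f ∉ [p, q, r, s, z q]) (hf' : z f ∉ [p, q, r, s, z q, f]) :
    ∃ g ∈ H, g.IsThreeCycle := by
  simp only [List.mem_cons, List.not_mem_nil, or_false, not_or] at hq hf hf'
  have h1 := H.mul_mem hy (hH (hz.swap_swap_mem hq.2.1 hf'.2.2.2.2.2))
  have h2 : swap p q * swap r s * (swap q (z q) * swap f (z f)) =
      swap q p * swap q (z q) * swap r s * swap f (z f) := by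
    rw [swap_comm q p, ← mul_assoc, mul_assoc (swap p q),
      (commute_swap hqr.symm (Ne.symm hq.2.2.1) hqs.symm (Ne.symm hq.2.2.2)).eq, ← mul_assoc]
  rw [h2] at h1
  refine ⟨_, H.mul_mem h1 h1, isThreeCycle_sq (isThreeCycle_swap_mul_swap_same hpq.symm (Ne.symm hq.2.1)
    (Ne.symm hq.1)) ?_ ?_ ?_ (swap_mul_self _ _) (swap_mul_self _ _)⟩
  · exact (commute_swap hqr hqs hpr hps).mul_left (commute_swap hqr hqs hq.2.2.1 hq.2.2.2)
  · exact (commute_swap (Ne.symm hf.2.1) (Ne.symm hf'.2.1) (Ne.symm hf.1) (Ne.symm hf'.1)).mul_left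
      (commute_swap (Ne.symm hf.2.1) (Ne.symm hf'.2.1) (Ne.symm hf.2.2.2.2) (Ne.symm hf'.2.2.2.2.1))
  · exact commute_swap (Ne.symm hf.2.2.1) (Ne.symm hf'.2.2.1) (Ne.symm hf.2.2.2.1) (Ne.symm hf'.2.2.2.1)

omit hz in
theorem mem_of_card {l : List α} (hl : l.Nodup) (h : l.length = Fintype.card α) (a : α) : a ∈ l := by
  have := Finset.eq_univ_of_card l.toFinset ((List.toFinset_card_of_nodup hl).trans h)
  rw [← List.mem_toFinset, this]
  exact Finset.mem_univ a

theorem exists_threeCycle (hc : Fintype.card α = 5 ∨ 8 ≤ Fintype.card α) {o : α} (ho : z o = o)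
    (htr : ∀ b c, b ≠ o → c ≠ o → ∃ g ∈ P, g b = c) {H : Subgroup (Perm α)} (hH : P ⊓ alternatingGroup α ≤ H)
    {h : Perm α} (hh : h ∈ H) (hho : h o ≠ o) : ∃ g ∈ H, g.IsThreeCycle := by
  have hne : ∀ a, a ≠ o → z a ≠ a := fun a ha e => ha (hz.fix_unique _ _ e ho)
  have hne' : ∀ a, a ≠ o → z a ≠ o := fun a ha e => ha (by rw [hz.eq_iff.1 e, ho])
  obtain ⟨a, rfl⟩ := h.surjective o
  have ha : a ≠ h a := fun e => hho (by rw [← e, ← e])
  obtain ⟨b, hb⟩ := exists_not_mem_list [h a, a, z a] (by simp; omega)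
  simp only [List.mem_cons, List.not_mem_nil, or_false, not_or] at hb
  have hy := H.mul_mem (H.mul_mem hh (hH (hz.swap_swap_mem (hne a ha) (hne b hb.1)))) (H.inv_mem hh)
  rw [show h * (swap a (z a) * swap b (z b)) * h⁻¹ = h * swap a (z a) * h⁻¹ * (h * swap b (z b) * h⁻¹) by group,
    ← swap_apply_apply, ← swap_apply_apply] at hy
  have h1 : h a ≠ h (z a) := fun e => hne a ha (h.injective e).symm
  have h2 : h a ≠ h b := fun e => hb.2.1 (h.injective e).symm
  have h3 : h a ≠ h (z b) := fun e => hb.2.2 (hz.eq_iff.1 (h.injective e).symm)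
  have h4 : h (z a) ≠ h b := fun e => hb.2.2 (h.injective e).symm
  have h5 : h (z a) ≠ h (z b) := fun e => hb.2.1 (z.injective (h.injective e)).symm
  have h6 : h b ≠ h (z b) := fun e => hne b hb.1 (h.injective e).symm
  generalize h a = o at *
  generalize h (z a) = c at *
  generalize h b = d at *
  generalize h (z b) = e at *
  clear hb ha hho hh
  rcases hc with hc | hc
  · obtain ⟨f, hf⟩ := exists_not_mem_list [o, c, d, e] (by simp; omega)
    simp only [List.mem_cons, List.not_mem_nil, or_false, not_or] at hf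
    have hall := mem_of_card (l := [o, c, d, e, f]) (by simp [*, Ne.symm hf.1, Ne.symm hf.2.1, Ne.symm hf.2.2.1,
      Ne.symm hf.2.2.2]) (by simp [hc])
    simp only [List.mem_cons, List.not_mem_nil, or_false] at hall
    have key : swap c f * swap d e ∈ P := by
      by_cases hcf : z c = f
      · have : z d = e := by
          rcases hall (z d) with h | h | h | h | h
          · exact absurd h (hne' d h2.symm)
          · exact absurd ((hz.eq_iff.1 h).trans hcf).symm hf.2.2.1
          · exact absurd h (hne d h2.symm)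
          · exact h
          · exact absurd (z.injective (hcf.trans h.symm)) h4
        exact hcf ▸ this ▸ P.mul_mem (hz.swap_mem c) (hz.swap_mem d)
      · obtain ⟨x, hx, e1, e2⟩ : ∃ x ∈ P, x c = f ∧ x f = c := by
          obtain ⟨x, hx, e1⟩ := htr c f h1.symm hf.1
          by_cases e2 : x f = c
          · exact ⟨x, hx, e1, e2⟩
          have hxo := hz.apply_eq_of_fix hx ho
          have hall' := mem_of_card (l := [o, c, z c, f, z f]) (by
            simp [h1, Ne.symm (hne' c h1.symm), Ne.symm hf.1, Ne.symm (hne' f hf.1), Ne.symm (hne c h1.symm),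
              Ne.symm hf.2.1, hcf, Ne.symm (hne f hf.1), show c ≠ z f from fun e => hcf (hz.eq_iff.2 e)])
            (by simp [hc]) (x f)
          simp only [List.mem_cons, List.not_mem_nil, or_false] at hall'
          refine ⟨swap c (z c) * x, P.mul_mem (hz.swap_mem c) hx, ?_, ?_⟩
          · rw [Perm.mul_apply, e1, swap_apply_of_ne_of_ne hf.2.1 (Ne.symm hcf)]
          · rcases hall' with h | h | h | h | h
            · exact absurd (x.injective (h.trans hxo.symm)) hf.1
            · exact absurd h e2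
            · rw [Perm.mul_apply, h, swap_apply_right]
            · exact absurd (x.injective (h.trans e1.symm)) hf.2.1
            · rw [← e1, hz.apply_apply_of_mem hx, e1] at h
              exact absurd (x.injective h).symm hcf
        have hxo := hz.apply_eq_of_fix hx ho
        have e3 : x (z c) = z f := by rw [← hz.apply_apply_of_mem hx, e1]
        have e4 : x (z f) = z c := by rw [← hz.apply_apply_of_mem hx, e2]
        have e5 : x d = e ∧ x e = d := by
          have hcf' : z f ≠ c := fun e => hcf (hz.eq_iff.2 e.symm)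
          have hne2 : z c ≠ z f := fun e => hf.2.1 (z.injective e).symm
          rcases hall (z c) with h | h | h | h | h
          · exact absurd h (hne' c h1.symm)
          · exact absurd h (hne c h1.symm)
          · rcases hall (z f) with h' | h' | h' | h' | h'
            · exact absurd h' (hne' f hf.1)
            · exact absurd h' hcf'
            · exact absurd (h.trans h'.symm) hne2
            · exact ⟨h ▸ h' ▸ e3, h ▸ h' ▸ e4⟩
            · exact absurd h' (hne f hf.1)
          · rcases hall (z f) with h' | h' | h' | h' | h'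
            · exact absurd h' (hne' f hf.1)
            · exact absurd h' hcf'
            · exact ⟨h ▸ h' ▸ e4, h ▸ h' ▸ e3⟩
            · exact absurd (h.trans h'.symm) hne2
            · exact absurd h' (hne f hf.1)
          · exact absurd h hcf
        convert hx
        ext w
        rw [Perm.mul_apply]
        rcases hall w with rfl | rfl | rfl | rfl | rfl
        · rw [swap_apply_of_ne_of_ne h2 h3, swap_apply_of_ne_of_ne h1 (Ne.symm hf.1), hxo]
        · rw [swap_apply_of_ne_of_ne h4 h5, swap_apply_left, e1]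
        · rw [swap_apply_left, swap_apply_of_ne_of_ne h5.symm (Ne.symm hf.2.2.2), e5.1]
        · rw [swap_apply_right, swap_apply_of_ne_of_ne h4.symm (Ne.symm hf.2.2.1), e5.2]
        · rw [swap_apply_of_ne_of_ne hf.2.2.1 hf.2.2.2, swap_apply_right, e2]
    refine ⟨_, H.mul_mem hy (H.inv_mem (hH ⟨key, swap_mul_swap_mem (Ne.symm hf.2.1) h6⟩)), ?_⟩
    rw [mul_inv_rev, swap_inv, swap_inv, mul_assoc, swap_mul_self_mul, swap_comm o c]
    exact isThreeCycle_swap_mul_swap_same h1.symm (Ne.symm hf.2.1) (Ne.symm hf.1)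
  · obtain ⟨f, hf⟩ := exists_not_mem_list [o, c, d, e, z c, z d, z e] (by simp; omega)
    simp only [List.mem_cons, List.not_mem_nil, or_false, not_or] at hf
    have hf' : z f ≠ o ∧ z f ≠ c ∧ z f ≠ d ∧ z f ≠ e ∧ z f ≠ z c ∧ z f ≠ z d ∧ z f ≠ z e ∧ z f ≠ f :=
      ⟨hne' f hf.1, fun e => hf.2.2.2.2.1 (hz.eq_iff.1 e), fun e => hf.2.2.2.2.2.1 (hz.eq_iff.1 e),
        fun e => hf.2.2.2.2.2.2 (hz.eq_iff.1 e), fun e => hf.2.1 (z.injective e), fun e => hf.2.2.1 (z.injective e),
        fun e => hf.2.2.2.1 (z.injective e), hne f hf.1⟩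
    have hcomm := (commute_swap h2 h3 h4 h5).eq
    by_cases e1 : z c = d
    · refine hz.exists_threeCycle_aux hH (hcomm ▸ hy) h6 h2.symm h4.symm h3.symm h5.symm ?_ (f := f) (by simp [hf])
        (by simp [hf'])
      simp [hne e h3.symm, hne' e h3.symm, show z e ≠ d from fun e => h5 (z.injective (e1.trans e.symm)),
        show z e ≠ c from fun e => h6 ((hz.eq_iff.1 e).trans e1).symm]
    by_cases e2 : z c = e
    · refine hz.exists_threeCycle_aux hH (swap_comm d e ▸ hcomm ▸ hy) h6.symm h3.symm h5.symm h2.symm h4.symm ?_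
        (f := f) (by simp [hf]) (by simp [hf'])
      simp [hne d h2.symm, hne' d h2.symm, show z d ≠ e from fun e => h4 (z.injective (e2.trans e.symm)),
        show z d ≠ c from fun e => h6 ((hz.eq_iff.1 e).trans e2)]
    · exact hz.exists_threeCycle_aux hH hy h1 h2 h3 h4 h5 (by simp [e1, e2, hne c h1.symm, hne' c h1.symm]) (f := f)
        (by simp [hf]) (by simp [hf'])

end Pairing

/-- In degree `2 ^ k + 1` every overgroup of the even part of a Sylow 2-subgroup fixes a point or contains the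
alternating group. -/
theorem exists_le_stabilizer_or {k : ℕ} (hk : 2 ≤ k) (hc : Fintype.card α = 2 ^ k + 1) (P : Sylow 2 (Perm α)) :
    ∃ o : α, (P : Subgroup (Perm α)) ≤ stabilizer (Perm α) o ∧
      (∀ a, (∀ g ∈ (P : Subgroup (Perm α)) ⊓ alternatingGroup α, g a = a) → a = o) ∧
      ∀ H : Subgroup (Perm α), (P : Subgroup (Perm α)) ⊓ alternatingGroup α ≤ H →
        H ≤ stabilizer (Perm α) o ∨ alternatingGroup α ≤ H := by
  obtain ⟨z, hz⟩ := exists_pairing P
  have h4 : 4 ≤ 2 ^ k := le_trans (by norm_num) (Nat.pow_le_pow_right two_pos hk)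
  obtain ⟨o, ho⟩ := P.isPGroup'.nonempty_fixed_point_of_prime_not_dvd_card α (by
    rw [Nat.card_eq_fintype_card, hc, show k = k - 1 + 1 by omega, pow_succ]
    omega)
  have hP : (P : Subgroup (Perm α)) ≤ stabilizer (Perm α) o := fun g hg => ho ⟨g, hg⟩
  have hzo : z o = o := by
    have := hP (hz.swap_mem o)
    rwa [mem_stabilizer_iff, Perm.smul_def, swap_apply_left] at this
  have htr : ∀ b c, b ≠ o → c ≠ o → ∃ g ∈ (P : Subgroup (Perm α)), g b = c := by
    obtain ⟨σ, hσ⟩ := (exists_with_cycleType_iff α (m := {2 ^ k})).2 ⟨by simp [hc], by simp; omega⟩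
    obtain ⟨x, -, hx⟩ := exists_conj_mem P le_top (Subgroup.mem_top σ) (n := k) (by
      rw [← orderOf_dvd_iff_pow_eq_one, ← lcm_cycleType, hσ]
      simp)
    rw [← cycleType_conj (τ := x)] at hσ
    generalize x * σ * x⁻¹ = τ at hx hσ
    have hτ : τ.IsCycle := card_cycleType_eq_one.1 (by rw [hσ]; rfl)
    have hs : τ.support = Finset.univ.erase o := by
      refine Finset.eq_of_subset_of_card_le (fun a ha => Finset.mem_erase.2 ⟨?_, Finset.mem_univ _⟩) ?_
      · rintro rfl
        exact mem_support.1 ha (hP hx)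
      · rw [← sum_cycleType, hσ, Finset.card_erase_of_mem (Finset.mem_univ _), Finset.card_univ, hc]
        simp
    intro b c hb hc
    obtain ⟨i, hi⟩ := hτ.exists_pow_eq (x := b) (y := c) (mem_support.1 (by simp [hs, hb]))
      (mem_support.1 (by simp [hs, hc]))
    exact ⟨τ ^ i, Subgroup.pow_mem _ hx i, hi⟩
  have htr' : ∀ b c, b ≠ o → c ≠ o → ∃ g ∈ (P : Subgroup (Perm α)) ⊓ alternatingGroup α, g b = c := fun b c hb hc' => by
    obtain ⟨g, hg, rfl⟩ := htr b c hb hc'
    exact hz.exists_even (by omega) hg b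
  refine ⟨o, hP, fun a ha => ?_, fun H hH => ?_⟩
  · by_contra hao
    obtain ⟨b, hb⟩ := exists_not_mem_list [o, a] (by simp; omega)
    simp only [List.mem_cons, List.not_mem_nil, or_false, not_or] at hb
    obtain ⟨g, hg, e⟩ := htr' a b hao hb.1
    exact hb.2 (e.symm.trans (ha g hg))
  rw [or_iff_not_imp_left]
  intro hne
  obtain ⟨h, hh, hho⟩ := SetLike.not_le_iff_exists.1 hne
  have hk8 : Fintype.card α = 5 ∨ 8 ≤ Fintype.card α := by
    rcases Nat.eq_or_lt_of_le hk with h | h
    · exact Or.inl (by rw [hc, ← h]; rfl)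
    · have : 2 ^ 3 ≤ 2 ^ k := Nat.pow_le_pow_right two_pos h
      omega
  obtain ⟨g, hg, hg3⟩ := hz.exists_threeCycle hk8 hzo htr hH hh hho
  refine alternatingGroup_le_of_isPreprimitive_of_isThreeCycle_mem (isPreprimitive_of o (transitive_of
    (fun b c hb hc => ?_) hh hho) fun b c hb hc => ?_) hg3 hg
  · obtain ⟨g, hg, e⟩ := htr' b c hb hc
    exact ⟨g, hH hg, e⟩
  · obtain ⟨g, hg, e⟩ := htr' b c hb hc
    exact ⟨g, hH hg, hP hg.1, e⟩

omit [DecidableEq α] [Fintype α] in
/-- The permutations preserving the partition into `s` and its complement. -/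
def halves (s : Set α) : Subgroup (Perm α) where
  carrier := {g | (∀ x, g x ∈ s ↔ x ∈ s) ∨ ∀ x, g x ∈ s ↔ x ∉ s}
  mul_mem' := by
    rintro g h (hg | hg) (hh | hh)
    · exact Or.inl fun x => (hg _).trans (hh x)
    · exact Or.inr fun x => (hg _).trans (hh x)
    · exact Or.inr fun x => (hg _).trans (hh x).not
    · exact Or.inl fun x => (hg _).trans ((hh x).not.trans not_not)
  one_mem' := Or.inl fun _ => Iff.rfl
  inv_mem' := by
    rintro g (hg | hg)
    · exact Or.inl fun x => by simpa using (hg (g⁻¹ x)).symm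
    · exact Or.inr fun x => iff_not_comm.1 (by simpa using hg (g⁻¹ x))

omit [DecidableEq α] [Fintype α] in
theorem le_halves_orbit (P : Subgroup (Perm α)) (a : α) : P ≤ halves (orbit P a) := fun g hg => Or.inl fun x =>
  ⟨fun h => by
    have := mem_orbit_of_mem_orbit (⟨g, hg⟩ : P)⁻¹ (show (⟨g, hg⟩ : P) • x ∈ orbit P a from h)
    rwa [inv_smul_smul] at this, mem_orbit_of_mem_orbit (⟨g, hg⟩ : P)⟩

theorem not_alt_le_halves {s : Set α} {a b c d : α} (ha : a ∈ s) (hb : b ∈ s) (hc : c ∉ s) (hab : a ≠ b) (hda : d ≠ a)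
    (hdb : d ≠ b) (hdc : d ≠ c) : ¬ alternatingGroup α ≤ halves s := fun h => by
  have hac : a ≠ c := fun e => hc (e ▸ ha)
  have hbc : b ≠ c := fun e => hc (e ▸ hb)
  rcases h (swap_mul_swap_mem hab hac) with h | h
  · have := h a
    rw [Perm.mul_apply, swap_apply_left, swap_apply_of_ne_of_ne hac.symm hbc.symm] at this
    exact hc (this.2 ha)
  · have := h d
    rw [Perm.mul_apply, swap_apply_of_ne_of_ne hda hdc, swap_apply_of_ne_of_ne hda hdb] at this
    exact iff_not_self this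

omit [DecidableEq α] in
theorem exists_halves {P : Subgroup (Perm α)} (hP : IsPGroup 2 P) (h2 : 2 ≤ Fintype.card α) :
    ∃ s : Set α, s.Nonempty ∧ sᶜ.Nonempty ∧ P ≤ halves s := by
  obtain ⟨a⟩ := Fintype.card_pos_iff.1 (show 0 < Fintype.card α by omega)
  by_cases htr : ∀ b, b ∈ orbit P a
  · obtain ⟨n, hn⟩ := hP.exists_card_eq
    obtain ⟨m, hm⟩ := (hP.to_subgroup (stabilizer P a)).exists_card_eq
    have hlt : m < n := by
      have h1 := (stabilizer P a).card_mul_index
      rw [index_stabilizer, Set.eq_univ_of_forall htr, Set.ncard_univ, Nat.card_eq_fintype_card (α := α), hm, hn] at h1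
      refine (Nat.pow_lt_pow_iff_right one_lt_two).1 ?_
      have := Nat.two_pow_pos m
      nlinarith
    obtain ⟨L, hL, hle⟩ := Sylow.exists_subgroup_card_pow_prime_le 2 (G := P) (m := n - 1)
      (hn ▸ pow_dvd_pow 2 (Nat.sub_le _ _)) _ hm (by omega)
    have hidx : L.index = 2 := by
      have h1 := L.card_mul_index
      rw [hL, hn, show 2 ^ n = 2 ^ (n - 1) * 2 by rw [← pow_succ]; congr 1; omega] at h1
      exact Nat.eq_of_mul_eq_mul_left (Nat.two_pow_pos _) h1
    have key : ∀ g : P, (g : Perm α) a ∈ {b | ∃ l ∈ L, l • a = b} ↔ g ∈ L := fun g =>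
      ⟨fun ⟨l, hl, e⟩ => by simpa using L.mul_mem hl (hle (show (l⁻¹ * g) • a = a by
        rw [mul_smul, inv_smul_eq_iff, e]; rfl)), fun h => ⟨g, h, rfl⟩⟩
    obtain ⟨g₀, hg₀⟩ : ∃ g, g ∉ L := by
      by_contra h
      simp only [not_exists, not_not] at h
      rw [(Subgroup.eq_top_iff' L).2 h, Subgroup.index_top] at hidx
      omega
    refine ⟨{b | ∃ l ∈ L, l • a = b}, ⟨a, 1, L.one_mem, one_smul _ _⟩, ⟨_, mt (key g₀).1 hg₀⟩, fun g hg => ?_⟩
    by_cases hgL : (⟨g, hg⟩ : P) ∈ L
    · refine Or.inl fun x => ?_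
      obtain ⟨y, rfl⟩ := htr x
      exact (key (⟨g, hg⟩ * y)).trans ((L.mul_mem_cancel_left hgL).trans (key y).symm)
    · refine Or.inr fun x => ?_
      obtain ⟨y, rfl⟩ := htr x
      refine (key (⟨g, hg⟩ * y)).trans (((Subgroup.mul_mem_iff_of_index_two hidx).trans ?_).trans (key y).not.symm)
      simp [hgL]
  · exact ⟨orbit P a, ⟨a, mem_orbit_self a⟩, not_forall.1 htr, le_halves_orbit P a⟩

theorem exists_two_overgroups (h6 : 6 ≤ Fintype.card α) (hk : ∀ k, Fintype.card α ≠ 2 ^ k + 1)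
    (P : Sylow 2 (Perm α)) : ∃ M₁ M₂ : Subgroup (Perm α), (P : Subgroup (Perm α)) ≤ M₁ ∧ (P : Subgroup (Perm α)) ≤ M₂ ∧
      ¬ alternatingGroup α ≤ M₁ ∧ ¬ alternatingGroup α ≤ M₂ ∧
      alternatingGroup α ≤ M₁ ⊓ alternatingGroup α ⊔ M₂ ⊓ alternatingGroup α := by
  obtain ⟨z, hz⟩ := exists_pairing P
  by_cases ho : ∃ o, z o = o
  · obtain ⟨o, ho⟩ := ho
    have hne : ∀ a, a ≠ o → z a ≠ a := fun a ha e => ha (hz.fix_unique _ _ e ho)
    have hne' : ∀ a, a ≠ o → z a ≠ o := fun a ha e => ha (by rw [hz.eq_iff.1 e, ho])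
    obtain ⟨a, ha⟩ := exists_not_mem_list [o] (by simp; omega)
    rw [List.mem_singleton] at ha
    have hoa : o ∉ orbit P a := fun ⟨g, hg⟩ => ha (g.1.injective (hg.trans (hz.apply_eq_of_fix g.2 ho).symm))
    have hza : z a ∈ orbit P a := ⟨⟨_, hz.swap_mem a⟩, swap_apply_left _ _⟩
    obtain ⟨u, hu, huo⟩ : ∃ u, u ∉ orbit P a ∧ u ≠ o := by
      by_contra h
      simp only [not_exists, not_and, not_not] at h
      obtain ⟨n, hn⟩ := P.isPGroup'.card_orbit a
      refine hk n ?_
      have : (orbit P a)ᶜ = {o} := Set.eq_singleton_iff_unique_mem.2 ⟨hoa, h⟩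
      rw [← hn, ← Nat.card_eq_fintype_card, ← Set.ncard_add_ncard_compl (orbit P a), this, Set.ncard_singleton]
      rfl
    have hua : u ≠ a := fun e => hu (by rw [e]; exact mem_orbit_self a)
    have huz : u ≠ z a := fun e => hu (e ▸ hza)
    refine ⟨stabilizer (Perm α) o, halves (orbit P a), fun g hg => hz.apply_eq_of_fix hg ho, le_halves_orbit _ a,
      fun h => ?_, not_alt_le_halves (mem_orbit_self a) hza hoa (hne a ha).symm hua huz huo, ?_⟩
    · have := h (swap_mul_swap_mem (hne a ha).symm huo.symm)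
      rw [mem_stabilizer_iff, Perm.smul_def, Perm.mul_apply, swap_apply_left, swap_apply_of_ne_of_ne hua huz] at this
      exact huo this
    have h2 : ∀ b c, b ≠ o → c ≠ o → ∃ h ∈ stabilizer (Perm α) o ⊓ alternatingGroup α ⊔
        halves (orbit P a) ⊓ alternatingGroup α, h o = o ∧ h b = c := fun b c hb hc => by
      by_cases hbc : b = c
      · exact ⟨1, Subgroup.one_mem _, rfl, hbc⟩
      obtain ⟨d, hd⟩ := exists_not_mem_list [o, b, c] (by simp; omega)
      simp only [List.mem_cons, List.not_mem_nil, or_false, not_or] at hd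
      have : (swap b d * swap b c) o = o := by
        rw [Perm.mul_apply, swap_apply_of_ne_of_ne hb.symm hc.symm, swap_apply_of_ne_of_ne hb.symm (Ne.symm hd.1)]
      exact ⟨swap b d * swap b c, Subgroup.mem_sup_left ⟨this, swap_mul_swap_mem (Ne.symm hd.2.1) hbc⟩, this, by
        rw [Perm.mul_apply, swap_apply_left, swap_apply_of_ne_of_ne (Ne.symm hbc) (Ne.symm hd.2.2)]⟩
    refine alternatingGroup_le_of_isPreprimitive_of_isThreeCycle_mem (isPreprimitive_of o (transitive_of
      (fun b c hb hc => (h2 b c hb hc).imp fun h hh => ⟨hh.1, hh.2.2⟩) (g := swap a (z a) * swap o u)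
      (Subgroup.mem_sup_right ⟨Or.inl fun x => ?_, swap_mul_swap_mem (hne a ha).symm huo.symm⟩) ?_) h2)
      (isThreeCycle_swap_mul_swap_same (hne a ha).symm hua.symm huz.symm)
      (Subgroup.mem_sup_left ⟨?_, swap_mul_swap_mem (hne a ha).symm hua.symm⟩)
    · rw [Perm.mul_apply]
      have h3 : ∀ y, swap a (z a) y ∈ orbit P a ↔ y ∈ orbit P a := fun y => by
        rw [swap_apply_def]
        split_ifs with h h'
        · simp [h, hza, mem_orbit_self]
        · simp [h', hza, mem_orbit_self]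
        · rfl
      rw [h3, swap_apply_def]
      split_ifs with h h'
      · simp [h, hu, hoa]
      · simp [h', hu, hoa]
      · rfl
    · rwa [Perm.mul_apply, swap_apply_left, swap_apply_of_ne_of_ne hua huz]
    · change (swap a (z a) * swap a u) o = o
      rw [Perm.mul_apply, swap_apply_of_ne_of_ne (Ne.symm ha) huo.symm,
        swap_apply_of_ne_of_ne (Ne.symm ha) (hne' a ha).symm]
  · simp only [not_exists] at ho
    obtain ⟨s, a, b, c, u, hs, ha, hb, hc, hu, hab, hac, hbc⟩ : ∃ (s : Set α) (a b c u : α),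
        (P : Subgroup (Perm α)) ≤ halves s ∧ a ∈ s ∧ b ∈ s ∧ c ∈ s ∧ u ∉ s ∧ a ≠ b ∧ a ≠ c ∧ b ≠ c := by
      obtain ⟨s, ⟨u, hu⟩, ⟨v, hv⟩, hs⟩ := exists_halves P.isPGroup' (by omega)
      have h1 := Set.ncard_add_ncard_compl s
      rw [Nat.card_eq_fintype_card] at h1
      by_cases h : 2 < s.ncard
      · obtain ⟨a, b, c, ha, hb, hc, h⟩ := (Set.two_lt_ncard_iff s.toFinite).1 h
        exact ⟨s, a, b, c, v, hs, ha, hb, hc, hv, h⟩
      · obtain ⟨a, b, c, ha, hb, hc, h⟩ := (Set.two_lt_ncard_iff sᶜ.toFinite).1 (by omega)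
        exact ⟨sᶜ, a, b, c, u, fun g hg => (hs hg).imp (fun h x => (h x).not) fun h x => (h x).not, ha, hb, hc,
          not_not.2 hu, h⟩
    have h3 := isThreeCycle_swap_mul_swap_same hab hac hbc
    have hτ : swap a b * swap a c ∉ Subgroup.centralizer {z} := fun h => by
      have h4 : ∀ x, x ∈ (swap a b * swap a c).support → z x ∈ (swap a b * swap a c).support := fun x hx => by
        rw [mem_support] at hx ⊢
        rw [← Pairing.mem_centralizer.1 h]
        exact fun e => hx (z.injective e)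
      have h5 := Finset.sum_involution (s := (swap a b * swap a c).support) (f := fun _ => (1 : ZMod 2))
        (fun x _ => z x) (fun _ _ => rfl) (fun x _ _ => ho x) h4 fun x _ => hz.invol x
      rw [Finset.sum_const, h3.card_support] at h5
      exact absurd h5 (by decide)
    refine ⟨Subgroup.centralizer {z}, halves s, fun g hg => Pairing.mem_centralizer.2 (hz.apply_apply_of_mem hg), hs,
      fun h => hτ (h h3.mem_alternatingGroup),
      not_alt_le_halves ha hb hu hab hac.symm hbc.symm fun e => hu (e ▸ hc), ?_⟩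
    have hτs : swap a b * swap a c ∈ halves s ⊓ alternatingGroup α := ⟨Or.inl fun x => by
      simp only [Perm.mul_apply, swap_apply_def]
      split_ifs <;> simp_all, h3.mem_alternatingGroup⟩
    generalize swap a b * swap a c = τ at h3 hτ hτs
    have T2 : ∀ o b c, b ≠ o → b ≠ z o → c ≠ o → c ≠ z o →
        ∃ h ∈ Subgroup.centralizer {z} ⊓ alternatingGroup α, h o = o ∧ h b = c := fun o b c h1 h2 h3 h4 => by
      have h1' : o ≠ z b := fun e => h2 (hz.eq_iff.1 e.symm)
      have h3' : o ≠ z c := fun e => h4 (hz.eq_iff.1 e.symm)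
      by_cases hbc : b = c
      · exact ⟨1, Subgroup.one_mem _, rfl, hbc⟩
      by_cases hbc' : z b = c
      · obtain ⟨d, hd⟩ := exists_not_mem_list [o, z o, b, z b] (by simp; omega)
        simp only [List.mem_cons, List.not_mem_nil, or_false, not_or] at hd
        refine ⟨swap b (z b) * swap d (z d), ⟨Subgroup.mul_mem _ (hz.swap_mem_centralizer b)
          (hz.swap_mem_centralizer d), swap_mul_swap_mem (Ne.symm (ho b)) (Ne.symm (ho d))⟩, ?_, ?_⟩
        · rw [Perm.mul_apply, swap_apply_of_ne_of_ne (Ne.symm hd.1) fun e => hd.2.1 (hz.eq_iff.1 e.symm),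
            swap_apply_of_ne_of_ne h1.symm h1']
        · rw [Perm.mul_apply, swap_apply_of_ne_of_ne (Ne.symm hd.2.2.1) fun e => hd.2.2.2 (hz.eq_iff.1 e.symm),
            swap_apply_left, hbc']
      · refine ⟨_, ⟨hz.swap_swap_mem_centralizer (ho b) (ho c) hbc', swap_mul_swap_mem hbc
          fun e => hbc (z.injective e)⟩, ?_, ?_⟩
        · rw [Perm.mul_apply, swap_apply_of_ne_of_ne h1' h3', swap_apply_of_ne_of_ne h1.symm h3.symm]
        · rw [Perm.mul_apply, swap_apply_of_ne_of_ne (Ne.symm (ho b)) fun e => hbc' (hz.eq_iff.2 e), swap_apply_left]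
    have T1 : ∀ b c, ∃ h ∈ Subgroup.centralizer {z} ⊓ alternatingGroup α, h b = c := fun b c => by
      obtain ⟨o, ho'⟩ := exists_not_mem_list [b, z b, c, z c] (by simp; omega)
      simp only [List.mem_cons, List.not_mem_nil, or_false, not_or] at ho'
      obtain ⟨h, hh, -, e⟩ := T2 o b c (Ne.symm ho'.1) (fun e => ho'.2.1 (hz.eq_iff.1 e.symm)) (Ne.symm ho'.2.2.1)
        fun e => ho'.2.2.2 (hz.eq_iff.1 e.symm)
      exact ⟨h, hh, e⟩
    rw [Pairing.mem_centralizer, not_forall] at hτ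
    obtain ⟨o, hx⟩ := hτ
    obtain ⟨m, hm, e⟩ := T1 (τ o) o
    set H := Subgroup.centralizer {z} ⊓ alternatingGroup α ⊔ halves s ⊓ alternatingGroup α
    have hg : m * τ ∈ H := H.mul_mem (Subgroup.mem_sup_left hm) (Subgroup.mem_sup_right hτs)
    have g1 : (m * τ) o = o := e
    have g2 : (m * τ) (z o) ≠ o := fun e => ho o ((m * τ).injective (e.trans g1.symm))
    have g3 : (m * τ) (z o) ≠ z o := fun e' => hx (m.injective (by
      rw [← Pairing.mem_centralizer.1 hm.1, e]
      exact e'.symm))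
    generalize m * τ = g at hg g1 g2 g3
    have T3 : ∀ b, b ≠ o → ∃ h ∈ H, h o = o ∧ h (z o) = b := fun b hb => by
      by_cases hb' : b = z o
      · exact ⟨1, H.one_mem, rfl, hb'.symm⟩
      · obtain ⟨h, hh, e1, e2⟩ := T2 o _ b g2 g3 hb hb'
        exact ⟨h * g, H.mul_mem (Subgroup.mem_sup_left hh) hg, by rw [Perm.mul_apply, g1, e1], e2⟩
    refine alternatingGroup_le_of_isPreprimitive_of_isThreeCycle_mem (isPreprimitive_of o
      (fun b => (T1 o b).imp fun h hh => ⟨Subgroup.mem_sup_left hh.1, hh.2⟩) fun b c hb hc => ?_) h3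
      (Subgroup.mem_sup_right hτs)
    obtain ⟨h, hh, e1, rfl⟩ := T3 b hb
    obtain ⟨k, hk, e2, rfl⟩ := T3 c hc
    exact ⟨k * h⁻¹, H.mul_mem hk (H.inv_mem hh), by rw [Perm.mul_apply, Perm.inv_eq_iff_eq.2 e1.symm, e2], by simp⟩

section hom

variable {G : Type*} [Group G] [Finite G] {φ : G →* Perm α} (hφ : Function.Injective φ)
  (hA : alternatingGroup α ≤ φ.range)
include hφ

theorem eq_top_of_alt_le (R : Sylow 2 G) {H : Subgroup G} (hR : (R : Subgroup G) ≤ H)
    (h : alternatingGroup α ≤ H.map φ) : H = ⊤ := by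
  have h1 : (alternatingGroup α).comap φ ≤ H := by
    rw [← Subgroup.comap_map_eq_self_of_injective hφ H]
    exact Subgroup.comap_mono h
  have h2 : H.index ∣ 2 := by
    refine (Subgroup.index_dvd_of_le h1).trans ?_
    rw [alternatingGroup, MonoidHom.comap_ker, Subgroup.index_ker, ← Fintype.card_units_int, ← Nat.card_eq_fintype_card]
    exact Subgroup.card_subgroup_dvd_card _
  rw [← Subgroup.index_eq_one]
  exact ((Nat.dvd_prime Nat.prime_two).1 h2).resolve_right fun e =>
    R.not_dvd_index (e.symm.dvd.trans (Subgroup.index_dvd_of_le hR))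

include hA

/-- A Sylow 2-subgroup lies in a unique maximal subgroup exactly in degree `2 ^ k + 1`. -/
theorem existsUnique_isCoatom_iff (h5 : 5 ≤ Fintype.card α) (R : Sylow 2 G) :
    (∃! M : Subgroup G, IsCoatom M ∧ (R : Subgroup G) ≤ M) ↔ ∃ k : ℕ, 2 ≤ k ∧ Fintype.card α = 2 ^ k + 1 := by
  obtain ⟨P, hP⟩ := R.exists_comap_eq_of_injective hφ
  have hne : ∀ M : Subgroup (Perm α), ¬ alternatingGroup α ≤ M → M.comap φ ≠ ⊤ := fun M hM e => hM fun g hg => by
    obtain ⟨x, rfl⟩ := hA hg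
    exact (e ▸ Subgroup.mem_top x : x ∈ M.comap φ)
  have hle : ∀ (M : Subgroup (Perm α)) (H : Subgroup G), M.comap φ ≤ H → M ⊓ alternatingGroup α ≤ H.map φ :=
    fun M H h g hg => by
      obtain ⟨x, rfl⟩ := hA hg.2
      exact ⟨x, h hg.1, rfl⟩
  constructor
  · rintro ⟨M, -, hM⟩
    by_contra hk
    have hk' : ∀ k, Fintype.card α ≠ 2 ^ k + 1 := fun k e => hk ⟨k, by
      by_contra h
      have : 2 ^ k ≤ 2 ^ 1 := Nat.pow_le_pow_right two_pos (by omega)
      omega, e⟩
    obtain ⟨M₁, M₂, h1, h2, h3, h4, h⟩ := exists_two_overgroups (by have := hk' 2; omega) hk' P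
    obtain ⟨N₁, hN₁, e₁⟩ := (eq_top_or_exists_le_coatom _).resolve_left (hne _ h3)
    obtain ⟨N₂, hN₂, e₂⟩ := (eq_top_or_exists_le_coatom _).resolve_left (hne _ h4)
    have r₁ : (R : Subgroup G) ≤ N₁ := hP ▸ (Subgroup.comap_mono h1).trans e₁
    have r₂ : (R : Subgroup G) ≤ N₂ := hP ▸ (Subgroup.comap_mono h2).trans e₂
    rw [(hM _ ⟨hN₂, r₂⟩).trans (hM _ ⟨hN₁, r₁⟩).symm] at e₂
    exact hN₁.1 (eq_top_of_alt_le hφ R r₁ (h.trans (sup_le (hle _ _ e₁) (hle _ _ e₂))))
  · rintro ⟨k, hk, hc⟩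
    obtain ⟨o, h1, -, h2⟩ := exists_le_stabilizer_or hk hc P
    have h3 : ¬ alternatingGroup α ≤ stabilizer (Perm α) o := fun h => by
      obtain ⟨a, ha⟩ := exists_not_mem_list [o] (by simp; omega)
      obtain ⟨b, hb⟩ := exists_not_mem_list [o, a] (by simp; omega)
      simp only [List.mem_cons, List.not_mem_nil, or_false, not_or] at ha hb
      have := h (swap_mul_swap_mem (Ne.symm hb.1) (Ne.symm ha))
      rw [mem_stabilizer_iff, Perm.smul_def, Perm.mul_apply, swap_apply_left,
        swap_apply_of_ne_of_ne ha (Ne.symm hb.2)] at this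
      exact ha this
    have key : ∀ H : Subgroup G, (R : Subgroup G) ≤ H → H ≠ ⊤ → H ≤ (stabilizer (Perm α) o).comap φ := fun H hH hne =>
      Subgroup.map_le_iff_le_comap.1 ((h2 _ (hle _ _ (hP ▸ hH))).resolve_right fun h =>
        hne (eq_top_of_alt_le hφ R hH h))
    have r : (R : Subgroup G) ≤ (stabilizer (Perm α) o).comap φ := hP ▸ Subgroup.comap_mono h1
    refine ⟨_, ⟨⟨hne _ h3, fun H hH => by_contra fun e => hH.not_ge (key H (r.trans hH.le) e)⟩, r⟩, ?_⟩
    rintro M ⟨hM, hRM⟩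
    exact ((hM.le_iff.1 (key M hRM hM.1)).resolve_left (hne _ h3)).symm

end hom

end CfsgLib.SymSyl
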