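import Cfsg.Agent.Lib.SymSyl.Two

/-!
# Elements of a symmetric group lying in a unique Sylow 2-subgroup
-/

set_option autoImplicit false

namespace CfsgLib.SymSyl

open Equiv Equiv.Perm MulAction

universe u

variable {α : Type u} [DecidableEq α] [Fintype α]

/-- The action of the centralizer of a pairing on its transpositions. -/
theorem Pairing.exists_hom {P : Subgroup (Perm α)} {z : Perm α} (hz : Pairing P z) :
    ∃ (T : Type u) (_ : Fintype T) (_ : DecidableEq T) (π : Subgroup.centralizer {z} →* Perm T)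
      (τ : ∀ a, z a ≠ a → T), Function.Surjective π ∧ IsPGroup 2 π.ker ∧
      (IsEmpty T ∨ Fintype.card T < Fintype.card α) ∧ (∀ t, ∃ a ha, t = τ a ha) ∧
      (∀ a ha b hb, τ a ha = τ b hb ↔ a = b ∨ a = z b) ∧
      ∀ k a ha hb, π k (τ a ha) = τ (k.1 a) hb := by
  classical
  let K := Subgroup.centralizer {z}
  let T := {t : Perm α // ∃ a, z a ≠ a ∧ t = swap a (z a)}
  let act : MulAction K T :=
    { smul := fun k t => ⟨k * t * (k : Perm α)⁻¹, by
        obtain ⟨a, ha, h⟩ := t.2
        refine ⟨k.1 a, ?_, ?_⟩ <;> rw [Pairing.mem_centralizer.1 k.2]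
        · exact fun e => ha (k.1.injective e)
        · rw [h, swap_apply_apply]⟩
      one_smul := fun t => Subtype.ext (by change (1 : Perm α) * t * 1⁻¹ = t; simp)
      mul_smul := fun k l t => Subtype.ext (by
        change (k * l : Perm α) * t * (k * l : Perm α)⁻¹ =
          k * (l * t * (l : Perm α)⁻¹) * (k : Perm α)⁻¹
        group) }
  let π : K →* Perm T := MulAction.toPermHom K T
  have hπ : ∀ (k : K) (t : T), (π k t : Perm α) = k * t * (k : Perm α)⁻¹ := fun _ _ => rfl
  refine ⟨T, inferInstance, inferInstance, π, fun a ha => ⟨_, a, ha, rfl⟩, ?_, ?_, ?_, ?_, ?_, ?_⟩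
  · rw [← MonoidHom.range_eq_top, eq_top_iff, ← closure_isSwap, Subgroup.closure_le]
    rintro _ ⟨⟨_, a, ha, rfl⟩, ⟨_, c, hc, rfl⟩, hne, rfl⟩
    have hac : a ≠ c := fun e => hne (by simp [e])
    have hac' : z a ≠ c := fun e => hne (Subtype.ext (by simp only [← e, hz.invol, swap_comm]))
    have hca' : a ≠ z c := fun e => hac' (hz.eq_iff.2 e)
    have hzz : z a ≠ z c := fun e => hac (z.injective e)
    refine ⟨⟨_, hz.swap_swap_mem_centralizer ha hc hac'⟩, Equiv.ext fun t => Subtype.ext ?_⟩
    obtain ⟨_, e, he, rfl⟩ := t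
    rw [hπ, ← swap_apply_apply,
      ← Pairing.mem_centralizer.1 (hz.swap_swap_mem_centralizer ha hc hac')]
    simp only [Perm.mul_apply]
    rcases eq_or_ne e a with rfl | h1
    · rw [swap_apply_left, swap_apply_of_ne_of_ne ha.symm hca', swap_apply_left]
    rcases eq_or_ne e c with rfl | h2
    · rw [swap_apply_right, swap_apply_of_ne_of_ne hac'.symm he.symm, swap_apply_right]
    rcases eq_or_ne e (z a) with rfl | h3
    · simp only [hz.invol, swap_comm (z a) a]
      rw [swap_apply_left, swap_apply_left, swap_apply_of_ne_of_ne hca'.symm hc, hz.invol,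
        swap_comm]
    rcases eq_or_ne e (z c) with rfl | h4
    · simp only [hz.invol, swap_comm (z c) c]
      rw [swap_apply_right, swap_apply_right, swap_apply_of_ne_of_ne ha hac', hz.invol, swap_comm]
    rw [swap_apply_of_ne_of_ne h3 h4, swap_apply_of_ne_of_ne h1 h2, swap_apply_of_ne_of_ne]
    · exact fun e' => (swap_eq_cases he.symm (congrArg Subtype.val e')).elim (fun h => h1 h.1)
        fun h => h3 h.1
    · exact fun e' => (swap_eq_cases he.symm (congrArg Subtype.val e')).elim (fun h => h2 h.1)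
        fun h => h4 h.1
  · refine fun k => ⟨1, Subtype.ext (Subtype.ext (Equiv.ext fun a => ?_))⟩
    change k.1.1 (k.1.1 a) = a
    have hk := Pairing.mem_centralizer.1 k.1.2
    by_cases ha : z a = a
    · have : k.1.1 a = a := hz.fix_unique _ _ (by rw [hk, ha]) ha
      rw [this, this]
    · have h1 := hπ k ⟨_, a, ha, rfl⟩
      rw [MonoidHom.mem_ker.1 k.2, ← swap_apply_apply] at h1
      rcases swap_eq_cases (Ne.symm ha) h1 with h | h
      · rw [← h.1, ← h.1]
      · rw [← h.2, ← h.1]
  · rcases isEmpty_or_nonempty T with hT | ⟨⟨t₀⟩⟩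
    · exact Or.inl hT
    right
    refine Fintype.card_lt_of_injective_of_notMem (fun t : T => t.2.choose)
      (fun t t' e => Subtype.ext ?_) (b := z t₀.2.choose) ?_
    · rw [t.2.choose_spec.2, t'.2.choose_spec.2]
      exact congrArg (fun a => swap a (z a)) e
    · rintro ⟨t, ht⟩
      have h1 : t = t₀ := Subtype.ext (by
        rw [t.2.choose_spec.2, t₀.2.choose_spec.2, show t.2.choose = _ from ht, hz.invol,
          swap_comm])
      subst h1
      exact t.2.choose_spec.1 ht.symm
  · rintro ⟨_, a, ha, rfl⟩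
    exact ⟨a, ha, rfl⟩
  · intro a ha b hb
    constructor
    · intro e
      exact (swap_eq_cases (Ne.symm ha) (congrArg Subtype.val e)).imp And.left And.left
    · rintro (rfl | rfl)
      · rfl
      · exact Subtype.ext (by simp only [hz.invol, swap_comm])
  · intro k a ha hb
    refine Subtype.ext ?_
    rw [hπ, ← swap_apply_apply, ← Pairing.mem_centralizer.1 k.2]

/-- At most two fixed points and cycles of different lengths. -/
structure Good (x : Perm α) : Prop where
  fix : ∀ a b c, x a = a → x b = b → x c = c → a = b ∨ a = c ∨ b = c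
  same : ∀ a b, x a ≠ a → period x a = period x b → x.SameCycle a b

omit [DecidableEq α] [Fintype α] in
theorem pow_fix {x : Perm α} {a : α} {m : ℕ} : (x ^ m) a = a ↔ period x a ∣ m :=
  pow_smul_eq_iff_period_dvd (m := x) (a := a)

omit [DecidableEq α] [Fintype α] in
theorem period_eq {β : Type*} {x : Perm α} {y : Perm β} {a : α} {b : β}
    (h : ∀ m : ℕ, (x ^ m) a = a ↔ (y ^ m) b = b) : period x a = period y b :=
  Nat.dvd_antisymm (pow_fix.1 ((h _).2 (pow_fix.2 dvd_rfl))) (pow_fix.1 ((h _).1 (pow_fix.2 dvd_rfl)))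

omit [DecidableEq α] [Fintype α] in
theorem period_two_pow {x : Perm α} {N : ℕ} (hx : x ^ 2 ^ N = 1) {a : α} (ha : x a ≠ a) :
    ∃ k, period x a = 2 ^ (k + 1) := by
  obtain ⟨k, -, hk⟩ := (Nat.dvd_prime_pow Nat.prime_two).1
    (pow_fix.1 (show (x ^ 2 ^ N) a = a by rw [hx]; rfl))
  rcases k with _ | k
  · exact absurd (period_eq_one_iff.1 hk) ha
  · exact ⟨k, hk⟩

theorem Good.pair_eq {x z : Perm α} (h : Good x) (hi : ∀ a, z (z a) = a)
    (hf : ∀ a c, z a = a → z c = c → a = c) (hc : Commute x z) {a : α} {k : ℕ}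
    (hk : period x a = 2 ^ (k + 1)) : z a = (x ^ 2 ^ k) a := by
  have hcm : ∀ (m : ℕ) b, (x ^ m) (z b) = z ((x ^ m) b) := fun m b =>
    congrArg (fun g : Perm α => g b) (hc.pow_left m).eq
  have ha : x a ≠ a := fun e => by
    rw [period_eq_one_iff.2 e] at hk
    exact absurd hk (Nat.one_lt_two_pow (by omega)).ne
  obtain ⟨j, hj⟩ := (h.same a (z a) ha (period_eq fun m => by
    rw [hcm, z.injective.eq_iff])).exists_nat_pow_eq
  have h1 : 2 ^ (k + 1) ∣ j + j := by
    rw [← hk, ← pow_fix, pow_add, Perm.mul_apply, hj, hcm, hj, hi]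
  have h2 : ¬ 2 ^ (k + 1) ∣ j := fun e => by
    rw [← hk, ← pow_fix, hj] at e
    have := hcm 1 a
    rw [pow_one, e] at this
    exact ha (hf _ _ this.symm e)
  obtain ⟨i, rfl⟩ : 2 ^ k ∣ j := by
    rw [← two_mul, pow_succ'] at h1
    exact Nat.dvd_of_mul_dvd_mul_left two_pos h1
  rcases Nat.even_or_odd' i with ⟨l, rfl | rfl⟩
  · exact absurd ⟨l, by ring⟩ h2
  · rw [← hj, show 2 ^ k * (2 * l + 1) = 2 ^ k + 2 ^ (k + 1) * l by ring, pow_add, Perm.mul_apply,
      (pow_fix (x := x) (a := a) (m := 2 ^ (k + 1) * l)).2 (hk ▸ dvd_mul_right _ _)]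

theorem Good.pair_unique {x z w : Perm α} {N : ℕ} (hx : x ^ 2 ^ N = 1) (h : Good x)
    (hi : ∀ a, z (z a) = a) (hf : ∀ a c, z a = a → z c = c → a = c) (hc : Commute x z)
    (hi' : ∀ a, w (w a) = a) (hf' : ∀ a c, w a = a → w c = c → a = c) (hc' : Commute x w) :
    z = w := by
  ext a
  by_cases ha : x a = a
  · have e : ∀ {y : Perm α}, Commute x y → ∀ b, x b = b → x (y b) = y b := fun {y} hy b hb => by
      have : x (y b) = y (x b) := congrArg (fun g : Perm α => g b) hy.eq
      rw [this, hb]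
    have key : ∀ {y v : Perm α}, (∀ a c, y a = a → y c = c → a = c) → Commute x y →
        Commute x v → y a = a → v a = a := fun {y v} hf hy hv h1 => by
      rcases h.fix a (v a) (y (v a)) ha (e hv a ha) (e hy _ (e hv a ha)) with h2 | h2 | h2
      · exact h2.symm
      · exact (y.injective (h1.trans h2)).symm
      · exact hf _ _ h2.symm h1
    rcases h.fix a (z a) (w a) ha (e hc a ha) (e hc' a ha) with h2 | h2 | h2
    · rw [← h2, key hf hc hc' h2.symm]
    · rw [← h2, key hf' hc' hc h2.symm]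
    · exact h2
  · obtain ⟨k, hk⟩ := period_two_pow hx ha
    rw [h.pair_eq hi hf hc hk, h.pair_eq hi' hf' hc' hk]

theorem eq_of_good_aux (n : ℕ) : ∀ (α : Type u) [DecidableEq α] [Fintype α], Fintype.card α = n →
    ∀ (x : Perm α) (N : ℕ), x ^ 2 ^ N = 1 → Good x → ∀ P Q : Sylow 2 (Perm α), x ∈ P → x ∈ Q →
      P = Q := by
  induction n using Nat.strong_induction_on with
  | _ n ih =>
  intro α _ _ hn x N hx h P Q hP hQ
  obtain ⟨z, hz⟩ := exists_pairing P
  obtain ⟨w, hw⟩ := exists_pairing Q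
  have hc : Commute x z := Equiv.ext fun a => (hz.apply_apply_of_mem hP a).symm
  obtain rfl : z = w := h.pair_unique hx hz.invol hz.fix_unique hc hw.invol hw.fix_unique
    (Equiv.ext fun a => (hw.apply_apply_of_mem hQ a).symm)
  have hPK : (P : Subgroup (Perm α)) ≤ Subgroup.centralizer {z} := fun g hg =>
    Pairing.mem_centralizer.2 (hz.apply_apply_of_mem hg)
  have hQK : (Q : Subgroup (Perm α)) ≤ Subgroup.centralizer {z} := fun g hg =>
    Pairing.mem_centralizer.2 (hw.apply_apply_of_mem hg)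
  obtain ⟨T, _, _, π, τ, hs, hker, hT, h1, h2, h3⟩ := hz.exists_hom
  suffices e : (P.subtype hPK).mapSurjective hs = (Q.subtype hQK).mapSurjective hs by
    have e1 := congrArg (fun R : Sylow 2 (Perm T) => (R : Subgroup (Perm T)).comap π) e
    simp only [Sylow.coe_mapSurjective] at e1
    rw [Subgroup.comap_map_eq_self (hker.le_sylow_of_normal _),
      Subgroup.comap_map_eq_self (hker.le_sylow_of_normal _)] at e1
    exact Sylow.subtype_injective (Sylow.ext e1)
  rcases hT with hT | hT
  · exact Sylow.ext (Subsingleton.elim _ _)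
  set k : Subgroup.centralizer {z} := ⟨x, hPK hP⟩
  have hmov : ∀ (m : ℕ) a, z a ≠ a → z ((x ^ m) a) ≠ (x ^ m) a := fun m a ha e => by
    have : (x ^ m) (z a) = z ((x ^ m) a) := congrArg (fun g : Perm α => g a) (hc.pow_left m).eq
    rw [← this] at e
    exact ha ((x ^ m).injective e)
  have hpow : ∀ (m : ℕ) a ha, (π k ^ m) (τ a ha) = τ ((x ^ m) a) (hmov m a ha) := fun m a ha => by
    rw [← map_pow]
    exact h3 (k ^ m) a ha _
  have hper : ∀ a ha, x a ≠ a → period x a = 2 * period (π k) (τ a ha) := fun a ha hxa => by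
    obtain ⟨j, hj⟩ := period_two_pow hx hxa
    have e := h.pair_eq hz.invol hz.fix_unique hc hj
    have e1 : period (π k) (τ a ha) ∣ 2 ^ j := by
      rw [← pow_fix, hpow, h2]
      exact Or.inr e.symm
    have e2 : 2 ^ (j + 1) ∣ 2 * period (π k) (τ a ha) := by
      have e3 := pow_fix.2 (dvd_refl (period (π k) (τ a ha)))
      rw [hpow, h2] at e3
      rw [← hj, ← pow_fix, two_mul, pow_add, Perm.mul_apply]
      rcases e3 with e3 | e3
      · rw [e3, e3]
      · have : (x ^ period (π k) (τ a ha)) (z a) = z ((x ^ period (π k) (τ a ha)) a) :=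
          congrArg (fun g : Perm α => g a) (hc.pow_left _).eq
        rw [e3, this, e3, hz.invol]
    rw [hj]
    exact Nat.dvd_antisymm e2 (by rw [pow_succ']; exact Nat.mul_dvd_mul_left 2 e1)
  have hfix : ∀ a ha, x a = a → π k (τ a ha) = τ a ha := fun a ha e => by
    have := hpow 1 a ha
    rw [pow_one] at this
    rw [this, h2]
    exact Or.inl (by rw [pow_one, e])
  have hsame : ∀ a ha b hb, x a ≠ a → x b ≠ b → period (π k) (τ a ha) = period (π k) (τ b hb) →
      (π k).SameCycle (τ a ha) (τ b hb) := fun a ha b hb e1 e2 e3 => by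
    obtain ⟨j, hj⟩ := (h.same a b e1 (by rw [hper a ha e1, hper b hb e2, e3])).exists_nat_pow_eq
    refine ⟨j, ?_⟩
    rw [zpow_natCast, hpow, h2]
    exact Or.inl hj
  refine ih _ (hn ▸ hT) T rfl (π k) N ?_ ⟨fun s t r hs' ht hr => ?_, fun s t hs' e => ?_⟩ _ _
    ⟨k, hP, rfl⟩ ⟨k, hQ, rfl⟩
  · rw [← map_pow, show k ^ 2 ^ N = 1 from Subtype.ext hx, map_one]
  · obtain ⟨a, ha, rfl⟩ := h1 s
    obtain ⟨b, hb, rfl⟩ := h1 t
    obtain ⟨c, hc', rfl⟩ := h1 r
    have two : ∀ a ha b hb, π k (τ a ha) = τ a ha → π k (τ b hb) = τ b hb →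
        (x a = a ↔ x b = b) → τ a ha = τ b hb := fun a ha b hb e1 e2 e3 => by
      by_cases e4 : x a = a
      · have e5 : x (z b) = z b := by
          have : x (z b) = z (x b) := congrArg (fun g : Perm α => g b) hc.eq
          rw [this, e3.1 e4]
        rcases h.fix a b (z b) e4 (e3.1 e4) e5 with e6 | e6 | e6
        · exact (h2 _ _ _ _).2 (Or.inl e6)
        · exact (h2 _ _ _ _).2 (Or.inr e6)
        · exact absurd e6.symm hb
      · exact (hsame a ha b hb e4 (fun e => e4 (e3.2 e)) (by
          rw [period_eq_one_iff.2 e1, period_eq_one_iff.2 e2])).eq_of_left e1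
    by_cases e1 : x a = a ↔ x b = b
    · exact Or.inl (two _ _ _ _ hs' ht e1)
    by_cases e2 : x a = a ↔ x c = c
    · exact Or.inr (Or.inl (two _ _ _ _ hs' hr e2))
    · exact Or.inr (Or.inr (two _ _ _ _ ht hr (by tauto)))
  · obtain ⟨a, ha, rfl⟩ := h1 s
    obtain ⟨b, hb, rfl⟩ := h1 t
    refine hsame a ha b hb (fun e1 => hs' (hfix a ha e1)) (fun e1 => hs' ?_) e
    rw [(period_eq_one_iff (a := τ b hb)).2 (hfix b hb e1)] at e
    exact period_eq_one_iff.1 e

theorem Good.eq {x : Perm α} {N : ℕ} (hx : x ^ 2 ^ N = 1) (h : Good x) {P Q : Sylow 2 (Perm α)}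
    (hP : x ∈ P) (hQ : x ∈ Q) : P = Q :=
  eq_of_good_aux _ α rfl x N hx h P Q hP hQ

/-- The transpositions of an involution commuting with a 2-element lie in a Sylow 2-subgroup
together with it. -/
theorem exists_sylow_swap {x w : Perm α} {N : ℕ} (hx : x ^ 2 ^ N = 1) (hw : ∀ a, w (w a) = a)
    (hc : Commute x w) : ∃ P : Sylow 2 (Perm α), x ∈ P ∧ ∀ a, swap a (w a) ∈ P := by
  let E : Subgroup (Perm α) :=
    { carrier := {g | (∀ a, g (w a) = w (g a)) ∧ ∀ a, g a = a ∨ g a = w a}
      mul_mem' := fun {g h} hg hh => ⟨fun a => by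
        rw [Perm.mul_apply, Perm.mul_apply, hh.1, hg.1], fun a => by
        rw [Perm.mul_apply]
        rcases hh.2 a with e | e <;> rw [e]
        · exact hg.2 a
        · rw [hg.1]
          rcases hg.2 a with e1 | e1 <;> rw [e1]
          · exact Or.inr rfl
          · exact Or.inl (hw a)⟩
      one_mem' := ⟨fun _ => rfl, fun _ => Or.inl rfl⟩
      inv_mem' := fun {g} hg => ⟨fun a => by
        apply g.injective
        rw [hg.1]
        simp, fun a => by
        rcases hg.2 a with e | e
        · exact Or.inl (Perm.inv_eq_iff_eq.2 e.symm)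
        · exact Or.inr (Perm.inv_eq_iff_eq.2 (by rw [hg.1, e, hw]))⟩ }
  have hE : IsPGroup 2 E := fun g => ⟨1, Subtype.ext (Equiv.ext fun a => by
    change g.1 (g.1 a) = a
    rcases g.2.2 a with e | e <;> rw [e]
    · exact e
    · rw [g.2.1, e, hw])⟩
  have hX : IsPGroup 2 (Subgroup.zpowers x) := IsPGroup.of_card_dvd_pow (n := N) (by
    rw [Nat.card_zpowers]
    exact orderOf_dvd_of_pow_eq_one hx)
  have hcm : ∀ b, x (w b) = w (x b) := fun b => congrArg (fun g : Perm α => g b) hc.eq
  have hcm' : ∀ b, x⁻¹ (w b) = w (x⁻¹ b) := fun b =>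
    congrArg (fun g : Perm α => g b) hc.inv_left.eq
  have hn : Subgroup.zpowers x ≤ Subgroup.normalizer (E : Set (Perm α)) := by
    rw [Subgroup.zpowers_le]
    refine Subgroup.mem_normalizer_fintype fun g hg => ⟨fun a => ?_, fun a => ?_⟩
    · simp only [Perm.mul_apply]
      rw [hcm', hg.1, hcm]
    · simp only [Perm.mul_apply]
      rcases hg.2 (x⁻¹ a) with e | e <;> rw [e]
      · exact Or.inl (by simp)
      · exact Or.inr (by rw [hcm]; simp)
  obtain ⟨P, hP⟩ := (hX.to_sup_of_normal_right' hE hn).exists_le_sylow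
  refine ⟨P, hP (Subgroup.mem_sup_left (Subgroup.mem_zpowers x)), fun a =>
    hP (Subgroup.mem_sup_right ⟨fun b => ?_, fun b => ?_⟩)⟩
  · have : w * swap a (w a) * w⁻¹ = swap a (w a) := by
      rw [← swap_apply_apply, hw, swap_comm]
    rw [← Perm.mul_apply, ← Perm.mul_apply w, ← mul_inv_eq_iff_eq_mul.1 this]
  · rcases eq_or_ne b a with rfl | h1
    · exact Or.inr (swap_apply_left _ _)
    rcases eq_or_ne b (w a) with rfl | h2
    · exact Or.inr (by rw [swap_apply_right, hw])
    · exact Or.inl (swap_apply_of_ne_of_ne h1 h2)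

theorem apply_eq_of_unique {x v w : Perm α} {N : ℕ} (hx : x ^ 2 ^ N = 1)
    (hu : ∃! P : Sylow 2 (Perm α), x ∈ P) (hv : ∀ a, v (v a) = a) (hw : ∀ a, w (w a) = a)
    (hcv : Commute x v) (hcw : Commute x w) {a : α} (h1 : v a ≠ a) (h2 : w a ≠ a) : v a = w a := by
  obtain ⟨P, hP, e1⟩ := exists_sylow_swap hx hv hcv
  obtain ⟨Q, hQ, e2⟩ := exists_sylow_swap hx hw hcw
  obtain rfl := hu.unique hP hQ
  exact eq_of_swap_mem P.isPGroup' (e1 a) (e2 a) h1 h2

theorem period_eq_card {x : Perm α} {a : α} (ha : x a ≠ a) :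
    period x a = (x.cycleOf a).support.card := by
  have hc := isCycle_cycleOf x ha
  have h1 : ∀ m : ℕ, (x ^ m) a = a ↔ x.cycleOf a ^ m = 1 := fun m => by
    rw [hc.pow_eq_one_iff' (x := a) (by rwa [cycleOf_apply_self]), cycleOf_pow_apply_self]
  rw [← hc.orderOf]
  exact Nat.dvd_antisymm (pow_fix.1 ((h1 _).2 (pow_orderOf_eq_one _)))
    (orderOf_dvd_of_pow_eq_one ((h1 _).1 (pow_fix.2 dvd_rfl)))

theorem existsUnique_iff {x : Perm α} {N : ℕ} (hx : x ^ 2 ^ N = 1) :
    (∃! P : Sylow 2 (Perm α), x ∈ P) ↔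
      (Fintype.card α ≤ x.support.card + 2 ∧ x.cycleType.Nodup) := by
  have hcard := Finset.card_add_card_compl x.support
  constructor
  · intro hu
    constructor
    · by_contra hlt
      obtain ⟨a, b, c, ha, hb, hc, hab, hac, hbc⟩ :=
        Finset.two_lt_card_iff.1 (show 2 < x.supportᶜ.card by omega)
      simp only [Finset.mem_compl, notMem_support] at ha hb hc
      have e : ∀ b, x b = b → Commute x (swap a b) := fun b hb => by
        rw [commute_iff_eq, ← mul_inv_eq_iff_eq_mul, ← swap_apply_apply, ha, hb]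
      have := apply_eq_of_unique hx hu (swap_apply_self a b) (swap_apply_self a c) (e b hb) (e c hc)
        (a := a) (by rw [swap_apply_left]; exact hab.symm) (by rw [swap_apply_left]; exact hac.symm)
      rw [swap_apply_left, swap_apply_left] at this
      exact hbc this
    · rw [cycleType_def, Multiset.nodup_map_iff_inj_on x.cycleFactorsFinset.nodup]
      intro c hc d hd e
      by_contra hne
      obtain ⟨B⟩ := Basis.nonempty x
      let τ : OnCycleFactors.range_toPermHom' x := ⟨swap ⟨c, hc⟩ ⟨d, hd⟩, fun s => by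
        rcases eq_or_ne s ⟨c, hc⟩ with rfl | h1
        · rw [swap_apply_left]; exact e.symm
        rcases eq_or_ne s ⟨d, hd⟩ with rfl | h2
        · rw [swap_apply_right]; exact e
        · rw [swap_apply_of_ne_of_ne h1 h2]⟩
      have hτ : τ * τ = 1 := Subtype.ext (swap_mul_self _ _)
      have ha := B.mem_support_self ⟨c, hc⟩
      have hb := B.mem_support_self ⟨d, hd⟩
      have e1 : B.ofPermHom τ (B ⟨c, hc⟩) = B ⟨d, hd⟩ := by
        rw [Basis.ofPermHom_apply, B.ofPermHomFun_apply_of_cycleOf_mem τ ha (m := 0) rfl]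
        simp [τ]
      have hcc : x.cycleOf (B ⟨c, hc⟩) = c := B.cycleOf_eq ⟨c, hc⟩
      have hxa : x (B ⟨c, hc⟩) ≠ B ⟨c, hc⟩ := by
        rw [← cycleOf_apply_self, hcc]
        exact mem_support.1 ha
      obtain ⟨k, hk⟩ := period_two_pow hx hxa
      have ho : orderOf c = 2 ^ (k + 1) := by
        rw [← hk, period_eq_card hxa, hcc, (mem_cycleFactorsFinset_iff.1 hc).1.orderOf]
      have hdis := (x.cycleFactorsFinset_pairwise_disjoint hc hd hne).disjoint_support
      have e2 := apply_eq_of_unique (v := c ^ 2 ^ k) (w := B.ofPermHom τ) hx hu (fun a => by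
          rw [← Perm.mul_apply, ← pow_add, ← two_mul, ← pow_succ', ← ho, pow_orderOf_eq_one]
          rfl)
        (fun a => by rw [← Perm.mul_apply, ← map_mul, hτ, map_one]; rfl)
        ((self_mem_cycle_factors_commute hc).symm.pow_right _)
        (Subgroup.mem_centralizer_singleton_iff.1 (B.ofPermHom_mem_centralizer τ)).symm
        (a := B ⟨c, hc⟩) (fun e => by
          have := ((mem_cycleFactorsFinset_iff.1 hc).1.pow_eq_one_iff' (mem_support.1 ha)).2 e
          have := orderOf_dvd_of_pow_eq_one this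
          rw [ho, Nat.pow_dvd_pow_iff_le_right one_lt_two] at this
          omega)
        (by rw [e1]; exact fun e => Finset.disjoint_left.1 hdis ha (e ▸ hb))
      rw [e1] at e2
      exact Finset.disjoint_left.1 hdis (pow_apply_mem_support.2 ha) (e2 ▸ hb)
  · rintro ⟨h1, h2⟩
    have hg : Good x := by
      refine ⟨fun a b c ha hb hc => ?_, fun a b ha e => ?_⟩
      · by_contra hn
        push Not at hn
        have := Finset.two_lt_card_iff.2 ⟨a, b, c, Finset.mem_compl.2 (notMem_support.2 ha),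
          Finset.mem_compl.2 (notMem_support.2 hb), Finset.mem_compl.2 (notMem_support.2 hc), hn⟩
        omega
      · have hb : x b ≠ b := fun e1 => by
          rw [(period_eq_one_iff (a := b)).2 e1] at e
          exact ha (period_eq_one_iff.1 e)
        rw [cycleType_def, Multiset.nodup_map_iff_inj_on x.cycleFactorsFinset.nodup] at h2
        rw [period_eq_card ha, period_eq_card hb] at e
        have := h2 _ (cycleOf_mem_cycleFactorsFinset_iff.2 (mem_support.2 ha)) _
          (cycleOf_mem_cycleFactorsFinset_iff.2 (mem_support.2 hb)) e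
        have hb' : b ∈ (x.cycleOf b).support :=
          mem_support_cycleOf_iff.2 ⟨SameCycle.rfl, mem_support.2 hb⟩
        rw [← this] at hb'
        exact (mem_support_cycleOf_iff.1 hb').1
    have hX : IsPGroup 2 (Subgroup.zpowers x) := IsPGroup.of_card_dvd_pow (n := N) (by
      rw [Nat.card_zpowers]
      exact orderOf_dvd_of_pow_eq_one hx)
    obtain ⟨P, hP⟩ := hX.exists_le_sylow
    exact ⟨P, hP (Subgroup.mem_zpowers x), fun Q hQ => hg.eq hx hQ (hP (Subgroup.mem_zpowers x))⟩

end CfsgLib.SymSyl
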